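import Cfsg.Agent.Lib.Spor.SchurCert.MatBridge
import Cfsg.Agent.Lib.Spor.SchurCert.LinTwo
import Cfsg.Agent.Lib.Spor.SuzMult.Data

/-!
The certificate at the prime 11: a polycyclic sequence of a Sylow subgroup and conjugations killing the tails.
-/

set_option autoImplicit false
set_option maxRecDepth 100000
set_option maxHeartbeats 0

namespace CfsgLib.Spor.SuzMult.P11

open CfsgLib.Spor.SchurCert CfsgLib.Spor.SchurCert.MatBridge

/-- The Sylow elements. -/
def sw : List (List ℕ) := [
    [235]]

/-- The conjugating elements. -/
def gw : List (List ℕ) := [
    [236]]

/-- The certificate. -/
def cert : SchurCert.Cert where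
  p := 11
  m := 1
  N := 11
  rules := [
    ([0, 0, 0, 0, 0, 0, 0, 0, 0, 0, 0], [])]
  maps := [
    [([0], [0, 0, 0])]]
  overlaps := []
  fuses := [
    ⟨0, [0, 0, 0, 0, 0, 0, 0, 0, 0, 0, 0], [], [(0, 0)], [], [(0, 0), (0, 0), (0, 0)], []⟩]
  adj := [
    []]
  base := []
  dense := [
    [9]]
  tgt := [
    ([], [(0, 5)])]

/-- Orbits inside the subgroup. -/
def orbits : List (List ℕ × List (ℕ × List ℕ)) := [
    ([], [(56282186758917562367034801074852961871569476555453463547583211705537245930681680473576613048763951438135788, [0, 0, 0, 0, 0]), (65662010828787669210124814279108031110299300625419719684829839428951688210975409815084273077035667413033660, [0, 0, 0, 0, 0, 0, 0, 0, 0]), (65662473995667929321808871185317961867107643886615742236049739193026169131871142086194397190110664438947332, [0]), (75041834898657776046243790829058886160964426877425147392903208250125167069705318702544495097664655067301300, [0, 0, 0]), (75041834910093148247318245933459949412950184279200286597524367748651071089478547906894354355310841302041664, [0, 0]), (75042298076973408359002302843919025028703998294783081872554750107295214937117035193656562275277662677431592, [0, 0, 0, 0, 0, 0, 0]), (75042298076973408365973167386610832547632416932099616176119617969420282828824581461013801557531831920777748,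 [0, 0, 0, 0, 0, 0]), (75042298076973408372944204028167297433293413416188723995071291040635711244673421365818061656471928357212768, [0, 0, 0, 0]), (75042298088409062907974023021429863786552511354223002754606190065926537855498383229330833167908119681013976, [0, 0, 0, 0, 0, 0, 0, 0, 0, 0]), (75042761255289605374526209534942878039260070398499508424436591228503975849534427283262420234512063756913036, [0, 0, 0, 0, 0, 0, 0, 0]), (112562520735956409447851611267016991984580410813578825706846029514451041733003352209561054719109825197491232, [])])]

theorem gw_ok : (gw.all fun s => s.all fun k => Nat.ble 170 k) = true := by decide +kernel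

theorem ident_ok : identMat table 170 cert sw gw = true := by decide +kernel

theorem sub_ok : subMatOK table startCode sw [] orbits = true := by decide +kernel

theorem shape_ok : cert.shapeOK = true := by decide +kernel

theorem lin_ok : cert.linOK = true := by decide +kernel

theorem prod_ok : cert.p ^ cert.m ≤ (orbits.map fun e => e.2.length).prod := by decide +kernel

end CfsgLib.Spor.SuzMult.P11
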