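import Cfsg.Agent.Lib.Spor.SchurCert.MatBridge
import Cfsg.Agent.Lib.Spor.SchurCert.LinTwo
import Cfsg.Agent.Lib.Spor.SuzMult.Data

/-!
The certificate at the prime 13: a polycyclic sequence of a Sylow subgroup and conjugations killing the tails.
-/

set_option autoImplicit false
set_option maxRecDepth 100000
set_option maxHeartbeats 0

namespace CfsgLib.Spor.SuzMult.P13

open CfsgLib.Spor.SchurCert CfsgLib.Spor.SchurCert.MatBridge

/-- The Sylow elements. -/
def sw : List (List ℕ) := [
    [237]]

/-- The conjugating elements. -/
def gw : List (List ℕ) := [
    [238]]

/-- The certificate. -/
def cert : SchurCert.Cert where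
  p := 13
  m := 1
  N := 13
  rules := [
    ([0, 0, 0, 0, 0, 0, 0, 0, 0, 0, 0, 0, 0], [])]
  maps := [
    [([0], [0, 0, 0, 0])]]
  overlaps := []
  fuses := [
    ⟨0, [0, 0, 0, 0, 0, 0, 0, 0, 0, 0, 0, 0, 0], [], [(0, 0)], [], [(0, 0), (0, 0), (0, 0), (0, 0)], []⟩]
  adj := [
    []]
  base := []
  dense := [
    [10]]
  tgt := [
    ([], [(0, 4)])]

/-- Orbits inside the subgroup. -/
def orbits : List (List ℕ × List (ℕ × List ℕ)) := [
    ([], [(56281723557730338615406620290414624114713955916400977998295985826012723257776608835504703893778490294031104, [0, 0, 0, 0, 0, 0, 0, 0, 0, 0, 0, 0]), (56282186736046253283033089805214479745824916795930985717829651476888510599650289077667323749572833783420212, [0]), (56282186747481907818063080901591163052919643647081310630011312346803601571556552143956028313539422002529856, [0, 0, 0, 0, 0, 0, 0, 0, 0, 0]), (56282649914362450284615267427851926610621259221124888915800688829106460249997944822956949707155500358786408, [0, 0, 0]), (65662010817352014668123958644288999871379334106281025090107780486410847415550219242223527868783479843282328, [0, 0, 0, 0, 0]), (65662010828787669217095506710187222138729513899426864401954285286945061306314451066160122113763792918349072,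 [0, 0, 0, 0, 0, 0, 0]), (75042298076973126025046766847694050288107113356831737926786837770484870734327673717479094903394192086740704, [0, 0, 0, 0, 0, 0, 0, 0]), (84422122158279169758034728652514874287971359864604651658582856741706993689639433513524386766731389876993228, [0, 0, 0, 0, 0, 0, 0, 0, 0]), (84422122169714824286093855206200064812065994228514441283084474615489907534174119417457373949981870781958140, [0, 0, 0, 0, 0, 0, 0, 0, 0, 0, 0]), (84422585336594519722896147697379249689117404571581918278238881156668573289754776667049553297002441553599900, [0, 0, 0, 0, 0, 0]), (84422585336594802063822376116184811004325107216969412772487419513815720889332794005791998143335350078443224, [0, 0, 0, 0]), (93802872584780823567568166404160754674868414866314321651395621080663511132382496823448081256166456318719552, [0, 0]), (112562520735956409447851611267016991984580410813578825706846029514451041733003352209561054719109825197491232, [])])]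

theorem gw_ok : (gw.all fun s => s.all fun k => Nat.ble 170 k) = true := by decide +kernel

theorem ident_ok : identMat table 170 cert sw gw = true := by decide +kernel

theorem sub_ok : subMatOK table startCode sw [] orbits = true := by decide +kernel

theorem shape_ok : cert.shapeOK = true := by decide +kernel

theorem lin_ok : cert.linOK = true := by decide +kernel

theorem prod_ok : cert.p ^ cert.m ≤ (orbits.map fun e => e.2.length).prod := by decide +kernel

end CfsgLib.Spor.SuzMult.P13
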