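import Cfsg.Agent.Lib.Spor.SchurCert.MatBridge
import Cfsg.Agent.Lib.Spor.SchurCert.LinTwo
import Cfsg.Agent.Lib.Spor.SuzMult.Data

/-!
The certificate at the prime 7: a polycyclic sequence of a Sylow subgroup and conjugations killing the tails.
-/

set_option autoImplicit false
set_option maxRecDepth 100000
set_option maxHeartbeats 0

namespace CfsgLib.Spor.SuzMult.P7

open CfsgLib.Spor.SchurCert CfsgLib.Spor.SchurCert.MatBridge

/-- The Sylow elements. -/
def sw : List (List ℕ) := [
    [233]]

/-- The conjugating elements. -/
def gw : List (List ℕ) := [
    [234]]

/-- The certificate. -/
def cert : SchurCert.Cert where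
  p := 7
  m := 1
  N := 7
  rules := [
    ([0, 0, 0, 0, 0, 0, 0], [])]
  maps := [
    [([0], [0, 0])]]
  overlaps := []
  fuses := [
    ⟨0, [0, 0, 0, 0, 0, 0, 0], [], [(0, 0)], [], [(0, 0), (0, 0)], []⟩]
  adj := [
    []]
  base := []
  dense := [
    [6]]
  tgt := [
    ([], [(0, 6)])]

/-- Orbits inside the subgroup. -/
def orbits : List (List ℕ × List (ℕ × List ℕ)) := [
    ([], [(46902362677612083329841197308888531990396496253476626462403899009599090759935624833082004781803241454238436, [0, 0, 0, 0, 0, 0]), (56282186747481625484107717012729555042260421687040935380666505856830082515827010280923246782526206646311156, [0]), (65662010828787669210124814274858781341968140301728749242234988315362099174378317898753294523636451973554716, [0, 0, 0]), (75042298076973408359002130740805012981663895604816044736022695094866396902509708768887065411146427774843320, [0, 0]), (84421658968527600548407403502895882503374096454754188487548601358576655187962239979644425710131995225209148, [0, 0, 0, 0, 0]), (84423048503475062182477297569335589227031231156334594155042878736325000174401052244492091977507799086845432, [0, 0, 0, 0]), (112562520735956409447851611267016991984580410813578825706846029514451041733003352209561054719109825197491232,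 [])])]

theorem gw_ok : (gw.all fun s => s.all fun k => Nat.ble 170 k) = true := by decide +kernel

theorem ident_ok : identMat table 170 cert sw gw = true := by decide +kernel

theorem sub_ok : subMatOK table startCode sw [] orbits = true := by decide +kernel

theorem shape_ok : cert.shapeOK = true := by decide +kernel

theorem lin_ok : cert.linOK = true := by decide +kernel

theorem prod_ok : cert.p ^ cert.m ≤ (orbits.map fun e => e.2.length).prod := by decide +kernel

end CfsgLib.Spor.SuzMult.P7
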