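import Cfsg.Agent.Lib.Spor.SuzMult.Group
import Cfsg.Agent.Lib.Spor.SuzMult.P2
import Cfsg.Agent.Lib.Spor.SuzMult.P3
import Cfsg.Agent.Lib.Spor.SuzMult.P5
import Cfsg.Agent.Lib.Spor.SuzMult.P7
import Cfsg.Agent.Lib.Spor.SuzMult.P11
import Cfsg.Agent.Lib.Spor.SuzMult.P13
import Cfsg.Agent.Lib.Spor.SchurCert.LinTwo
import Cfsg.Agent.Lib.Lie.Mult.Sylow

/-!
The sixfold cover has no proper stem extensions: a certificate at each prime dividing the order.
-/

set_option autoImplicit false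
set_option maxRecDepth 20000

namespace CfsgLib.Spor.SuzMult

open Cfsg CfsgLib.Spor.SchurCert CfsgLib.Spor.SchurCert.MatBridge CfsgLib.Spor.Leech

theorem ker_eq_bot {Γ : Type*} [Group Γ] [Finite Γ] (σ : Γ →* ↥Hsub) (hσ : Cfsg.IsStemExtension σ) :
    σ.ker = ⊥ := by
  refine Lie.Mult.ker_eq_bot_of_forall fun ℓ hℓ => ?_
  have : Fact ℓ.Prime := ⟨hℓ⟩
  by_cases h2c : ℓ = 2
  · subst h2c
    haveI : Fact P2.cert.p.Prime := ⟨by rw [show P2.cert.p = 2 from rfl]; norm_num⟩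
    obtain ⟨γ, conj, h1, h2, h3, h4⟩ := mat_facts (H := Hsub) isMat_elts elts_mem (x0 := Spor.leechU)
      (by rw [start_code.2]; norm_num) start_code.1 P2.cert P2.sw P2.gw P2.orbits
      (by rw [card_Hsub]; exact Mults.factor_of (p := 2) (a := 14) (b := 164189025) (by norm_num) (by norm_num) (by norm_num))
      P2.gw_ok P2.ident_ok P2.sub_ok P2.prod_ok P2.shape_ok
    exact not_dvd_ker_mask P2.cert hσ rfl P2.lin_ok γ conj h1 h2 P2.shape_ok h3 h4
  by_cases h3c : ℓ = 3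
  · subst h3c
    haveI : Fact P3.cert.p.Prime := ⟨by rw [show P3.cert.p = 3 from rfl]; norm_num⟩
    obtain ⟨γ, conj, h1, h2, h3, h4⟩ := mat_facts (H := Hsub) isMat_elts elts_mem (x0 := Spor.leechU)
      (by rw [start_code.2]; norm_num) start_code.1 P3.cert P3.sw P3.gw P3.orbits
      (by rw [card_Hsub]; exact Mults.factor_of (p := 3) (a := 8) (b := 410009600) (by norm_num) (by norm_num) (by norm_num))
      P3.gw_ok P3.ident_ok P3.sub_ok P3.prod_ok P3.shape_ok
    exact not_dvd_ker P3.cert hσ rfl rfl γ conj h1 h2 P3.shape_ok P3.lin_ok h3 h4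
  by_cases h5c : ℓ = 5
  · subst h5c
    haveI : Fact P5.cert.p.Prime := ⟨by rw [show P5.cert.p = 5 from rfl]; norm_num⟩
    obtain ⟨γ, conj, h1, h2, h3, h4⟩ := mat_facts (H := Hsub) isMat_elts elts_mem (x0 := Spor.leechU)
      (by rw [start_code.2]; norm_num) start_code.1 P5.cert P5.sw P5.gw P5.orbits
      (by rw [card_Hsub]; exact Mults.factor_of (p := 5) (a := 2) (b := 107602919424) (by norm_num) (by norm_num) (by norm_num))
      P5.gw_ok P5.ident_ok P5.sub_ok P5.prod_ok P5.shape_ok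
    exact not_dvd_ker P5.cert hσ rfl rfl γ conj h1 h2 P5.shape_ok P5.lin_ok h3 h4
  by_cases h7c : ℓ = 7
  · subst h7c
    haveI : Fact P7.cert.p.Prime := ⟨by rw [show P7.cert.p = 7 from rfl]; norm_num⟩
    obtain ⟨γ, conj, h1, h2, h3, h4⟩ := mat_facts (H := Hsub) isMat_elts elts_mem (x0 := Spor.leechU)
      (by rw [start_code.2]; norm_num) start_code.1 P7.cert P7.sw P7.gw P7.orbits
      (by rw [card_Hsub]; exact Mults.factor_of (p := 7) (a := 1) (b := 384296140800) (by norm_num) (by norm_num) (by norm_num))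
      P7.gw_ok P7.ident_ok P7.sub_ok P7.prod_ok P7.shape_ok
    exact not_dvd_ker P7.cert hσ rfl rfl γ conj h1 h2 P7.shape_ok P7.lin_ok h3 h4
  by_cases h11c : ℓ = 11
  · subst h11c
    haveI : Fact P11.cert.p.Prime := ⟨by rw [show P11.cert.p = 11 from rfl]; norm_num⟩
    obtain ⟨γ, conj, h1, h2, h3, h4⟩ := mat_facts (H := Hsub) isMat_elts elts_mem (x0 := Spor.leechU)
      (by rw [start_code.2]; norm_num) start_code.1 P11.cert P11.sw P11.gw P11.orbits
      (by rw [card_Hsub]; exact Mults.factor_of (p := 11) (a := 1) (b := 244552089600) (by norm_num) (by norm_num) (by norm_num))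
      P11.gw_ok P11.ident_ok P11.sub_ok P11.prod_ok P11.shape_ok
    exact not_dvd_ker P11.cert hσ rfl rfl γ conj h1 h2 P11.shape_ok P11.lin_ok h3 h4
  by_cases h13c : ℓ = 13
  · subst h13c
    haveI : Fact P13.cert.p.Prime := ⟨by rw [show P13.cert.p = 13 from rfl]; norm_num⟩
    obtain ⟨γ, conj, h1, h2, h3, h4⟩ := mat_facts (H := Hsub) isMat_elts elts_mem (x0 := Spor.leechU)
      (by rw [start_code.2]; norm_num) start_code.1 P13.cert P13.sw P13.gw P13.orbits
      (by rw [card_Hsub]; exact Mults.factor_of (p := 13) (a := 1) (b := 206928691200) (by norm_num) (by norm_num) (by norm_num))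
      P13.gw_ok P13.ident_ok P13.sub_ok P13.prod_ok P13.shape_ok
    exact not_dvd_ker P13.cert hσ rfl rfl γ conj h1 h2 P13.shape_ok P13.lin_ok h3 h4
  refine Lie.Mult.not_dvd_ker_of_cyclic hσ ⊥ ?_
  rw [Subgroup.index_bot, card_Hsub]
  intro hd
  have e : (2690072985600 : ℕ) = ([(2, 14), (3, 8), (5, 2), (7, 1), (11, 1), (13, 1)].map fun t : ℕ × ℕ => t.1 ^ t.2).prod := by norm_num
  rw [e] at hd
  obtain ⟨x, hx, hd⟩ := hℓ.prime.dvd_prod_iff.1 hd
  obtain ⟨t, ht, rfl⟩ := List.mem_map.1 hx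
  have hd' := hℓ.dvd_of_dvd_pow hd
  simp only [List.mem_cons, List.not_mem_nil, or_false] at ht
  rcases ht with rfl | rfl | rfl | rfl | rfl | rfl
  · exact h2c ((Nat.prime_dvd_prime_iff_eq hℓ (by norm_num)).1 hd')
  · exact h3c ((Nat.prime_dvd_prime_iff_eq hℓ (by norm_num)).1 hd')
  · exact h5c ((Nat.prime_dvd_prime_iff_eq hℓ (by norm_num)).1 hd')
  · exact h7c ((Nat.prime_dvd_prime_iff_eq hℓ (by norm_num)).1 hd')
  · exact h11c ((Nat.prime_dvd_prime_iff_eq hℓ (by norm_num)).1 hd')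
  · exact h13c ((Nat.prime_dvd_prime_iff_eq hℓ (by norm_num)).1 hd')

end CfsgLib.Spor.SuzMult
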