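import Cfsg.Agent.Lib.Spor.SuzMult.Data
import Cfsg.Agent.Lib.Spor.SchurCert.MatBridge
import Cfsg.Agent.Lib.Spor.Suz.Rels

/-!
The seven lifts satisfy the relators up to powers of the central element of order six.
-/

set_option autoImplicit false
set_option maxRecDepth 100000
set_option maxHeartbeats 0

namespace CfsgLib.Spor.SuzMult

open CfsgLib.Spor.TC CfsgLib.Spor.Suz CfsgLib.Spor.Leech.Census32 CfsgLib.Spor.SchurCert.MatBridge

/-- Words in the lifts, with the exponents to which they are raised and the powers of the central element. -/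
def lifts : List (List ℕ × ℕ × ℕ) := [
    ([0, 0], 1, 2),
    ([1, 1], 1, 4),
    ([2, 2], 1, 2),
    ([3, 3], 1, 1),
    ([4, 4], 1, 5),
    ([5, 5], 1, 0),
    ([6, 6], 1, 2),
    ([0, 1], 5, 0),
    ([0, 2], 2, 4),
    ([0, 3], 2, 3),
    ([0, 4], 2, 1),
    ([0, 5], 2, 2),
    ([0, 6], 2, 4),
    ([1, 2], 3, 3),
    ([1, 3], 2, 5),
    ([1, 4], 2, 3),
    ([1, 5], 3, 3),
    ([1, 6], 3, 3),
    ([2, 3], 8, 0),
    ([2, 4], 2, 1),
    ([2, 5], 2, 2),
    ([2, 6], 2, 4),
    ([3, 4], 3, 0),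
    ([3, 5], 2, 1),
    ([3, 6], 2, 3),
    ([4, 5], 2, 5),
    ([4, 6], 2, 1),
    ([5, 6], 4, 4),
    ([0, 3, 2, 3, 2, 3, 2, 3, 2], 1, 4),
    ([0, 6, 5, 6, 5], 1, 0),
    ([0, 1, 2, 5], 5, 5),
    ([1, 5, 6], 5, 2),
    ([1, 2, 3, 2, 3, 1, 2, 3, 2, 3, 1, 2, 3, 2, 3, 1, 2, 3, 2, 3, 1, 2, 3, 2, 3, 4], 3, 3)]

/-- A word in the lifts as a word of the table. -/
def shift (w : List ℕ) : List ℕ := w.map (170 + ·)

theorem lifts_ok : (lifts.all fun l => sameM table 170 (powWord (shift l.1) l.2.1) (List.replicate l.2.2 177)) = true := by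
  decide +kernel

theorem lifts_cover : (relsG.all fun r => lifts.any fun l => l.1 == r.1 && l.2.1 == r.2) = true ∧
    ((List.range 7).all fun x => lifts.any fun l => l.1 == [x, x] && l.2.1 == 1) = true ∧
    (relsG.all fun r => r.1.all fun x => Nat.blt x 7) = true := by
  decide +kernel

theorem central_ok : ((List.range 7).all fun x => sameM table 170 [177, 170 + x] [170 + x, 177]) = true ∧
    sameM table 170 (List.replicate 6 177) [] = true ∧
    ((List.range 6).all fun j => Nat.beq j 0 || !(sameM table 170 (List.replicate j 177) [])) = true ∧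
    sameM table 170 [170, 171] [171, 170] = false := by
  decide +kernel

end CfsgLib.Spor.SuzMult
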