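import Cfsg.Agent.Lib.Spor.SuzMult.Data
import Cfsg.Agent.Lib.Spor.SchurCert.MatTable

/-!
The table is built as recorded: eight entries from the larger table, the others from those eight.
-/

set_option autoImplicit false
set_option maxRecDepth 100000
set_option maxHeartbeats 0

namespace CfsgLib.Spor.SuzMult

open CfsgLib.Spor.Leech CfsgLib.Spor.Leech.Census32 CfsgLib.Spor.SchurCert CfsgLib.Spor.SchurCert.MatBridge

theorem table_check : (extendM (ops.drop 8) (extendM (ops.take 8) CoTwoOut.allMats) == table) = true ∧
    Nat.beq CoTwoOut.allMats.length 170 = true ∧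
    ((ops.drop 8).all fun w => w.all fun k => Nat.ble 170 k) = true := by
  decide +kernel

end CfsgLib.Spor.SuzMult
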