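import Cfsg.Agent.Lib.Spor.SuzMult.Table
import Cfsg.Agent.Lib.Spor.SuzMult.CheckRels
import Cfsg.Agent.Lib.Spor.Suz.Order
import Cfsg.Agent.Lib.Spor.Mults.Transport
import Cfsg.Agent.Lib.Spor.Leech.CrossStab

/-!
The sixfold cover of the presented Suzuki group inside the automorphism group of the lattice.
-/

set_option autoImplicit false
set_option maxRecDepth 100000

namespace CfsgLib.Spor.SuzMult

open Cfsg CfsgLib.Spor.TC CfsgLib.Spor.Suz CfsgLib.Spor.Leech CfsgLib.Spor.Leech.Census32
  CfsgLib.Spor.SchurCert.MatBridge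

attribute [local irreducible] chosen walk enc table elts gens8

/-- The element of a word. -/
noncomputable def el8 (w : List ℕ) : ↥Hsub := melt elts_mem w

theorem el8_append {u v : List ℕ} (hu : ∀ k ∈ u, 170 ≤ k) (hv : ∀ k ∈ v, 170 ≤ k) :
    el8 (u ++ v) = el8 u * el8 v := melt_append elts_mem hu hv

theorem el8_nil : el8 [] = 1 := by
  refine Subtype.ext ?_
  rw [el8, melt_val elts_mem (by simp)]
  rfl

theorem el8_of_same {u v : List ℕ} (h : sameM table 170 u v = true) : el8 u = el8 v := by
  simp only [sameM, Bool.and_eq_true, List.all_eq_true] at h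
  refine Subtype.ext ?_
  rw [el8, el8, melt_val elts_mem fun k hk => Nat.le_of_ble_eq_true (h.1 k (List.mem_append_left _ hk)),
    melt_val elts_mem fun k hk => Nat.le_of_ble_eq_true (h.1 k (List.mem_append_right _ hk))]
  exact eq_of_same isMat_elts (List.all_eq_true.2 h.2)

theorem el8_ne {u v : List ℕ} (hu : ∀ k ∈ u, 170 ≤ k) (hv : ∀ k ∈ v, 170 ≤ k)
    (h : sameM table 170 u v = false) : el8 u ≠ el8 v := by
  intro e
  have e1 : wordElt elts u = wordElt elts v := by
    rw [← melt_val elts_mem hu, ← melt_val elts_mem hv]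
    exact congrArg Subtype.val e
  have ht : sameM table 170 u v = true := by
    simp only [sameM, Bool.and_eq_true, List.all_eq_true]
    refine ⟨fun k hk => Nat.ble_eq_true_of_le ((List.mem_append.1 hk).elim (hu k) (hv k)), fun X hX => ?_⟩
    obtain ⟨i, -, rfl⟩ := List.mem_map.1 (show X ∈ (List.range 24).map fun i => enc (Pi.single (idxPt i) 8) from hX)
    have hn : sqNorm (eight (idxPt i) : GolayPt → ℤ) ≤ 64 := (sqNorm_eight _).le
    show Nat.beq (walk table (enc (eight (idxPt i) : GolayPt → ℤ)) u) _ = true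
    rw [walk_enc isMat_elts hn, e1, ← walk_enc isMat_elts hn]
    exact Nat.beq_refl _
  rw [h] at ht
  exact Bool.false_ne_true ht

/-- The lifts of the generators. -/
noncomputable def gen (x : ℕ) : ↥Hsub := el8 [170 + x]

/-- The central element of order six. -/
noncomputable def zc : ↥Hsub := el8 [177]

theorem el8_shift : ∀ w : List ℕ, el8 (shift w) = ev gen w
  | [] => el8_nil
  | a :: w => by
    have hs : ∀ k ∈ shift w, 170 ≤ k := fun k hk => by
      obtain ⟨x, -, rfl⟩ := List.mem_map.1 hk
      omega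
    rw [ev_cons, ← el8_shift w, show shift (a :: w) = [170 + a] ++ shift w from rfl, el8_append (by simp) hs]
    rfl

theorem el8_replicate : ∀ j : ℕ, el8 (List.replicate j 177) = zc ^ j
  | 0 => by rw [pow_zero]; exact el8_nil
  | j + 1 => by
    rw [pow_succ', ← el8_replicate j, List.replicate_succ, show (177 :: List.replicate j 177) =
      [177] ++ List.replicate j 177 from rfl, el8_append (by simp) fun k hk => by
        rw [List.eq_of_mem_replicate hk]; norm_num]
    rfl

theorem shift_powWord (w : List ℕ) : ∀ e : ℕ, shift (powWord w e) = powWord (shift w) e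
  | 0 => rfl
  | e + 1 => by
    show shift (w ++ powWord w e) = shift w ++ powWord (shift w) e
    rw [← shift_powWord w e]
    exact List.map_append

theorem lift_eq {w : List ℕ} {e k : ℕ} (h : (w, e, k) ∈ lifts) : ev gen w ^ e = zc ^ k := by
  have h1 := el8_of_same (List.all_eq_true.1 lifts_ok _ h)
  dsimp only at h1
  rw [el8_replicate, ← shift_powWord, el8_shift, ev_powWord] at h1
  exact h1

theorem zc_order : orderOf zc = 6 := by
  refine (orderOf_eq_iff (by norm_num)).2 ⟨?_, fun j hj hj0 h => ?_⟩
  · rw [← el8_replicate, el8_of_same central_ok.2.1, el8_nil]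
  · have h1 := List.all_eq_true.1 central_ok.2.2.1 j (List.mem_range.2 hj)
    simp only [Bool.or_eq_true, Bool.not_eq_true'] at h1
    rcases h1 with h1 | h1
    · exact absurd (Nat.eq_of_beq_eq_true h1) (by omega)
    · refine el8_ne (fun k hk => by rw [List.eq_of_mem_replicate hk]; norm_num) (by simp) h1 ?_
      rw [el8_replicate, el8_nil, h]

theorem closure_gens : Subgroup.closure (insert zc (gen '' Set.Iio 7)) = ⊤ := by
  apply Subgroup.map_injective Hsub.subtype_injective
  rw [MonoidHom.map_closure, ← MonoidHom.range_eq_map, Subgroup.range_subtype]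
  refine congrArg Subgroup.closure ?_
  have hv : ∀ k, 170 ≤ k → k < 178 → ((el8 [k] : ↥Hsub) : Co0) = gens8.getD k 1 := fun k h1 h2 => by
    rw [el8, melt_val elts_mem (by simp [h1]), ← elts_eq h2]
    simp [wordElt]
  ext g
  constructor
  · rintro ⟨a, ha, rfl⟩
    rcases ha with rfl | ⟨x, hx, rfl⟩
    · exact ⟨177, by norm_num, by norm_num, (hv 177 (by norm_num) (by norm_num)).symm⟩
    · simp only [Set.mem_Iio] at hx
      exact ⟨170 + x, by omega, by omega, (hv _ (by omega) (by omega)).symm⟩
  · rintro ⟨k, h1, h2, rfl⟩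
    refine ⟨el8 [k], ?_, hv k h1 h2⟩
    by_cases h : k = 177
    · exact Or.inl (by rw [h]; rfl)
    · exact Or.inr ⟨k - 170, by simp only [Set.mem_Iio]; omega, by rw [gen, show 170 + (k - 170) = k by omega]⟩

theorem zc_central : zc ∈ Subgroup.center ↥Hsub := by
  have hle : (insert zc (gen '' Set.Iio 7) : Set ↥Hsub) ⊆ (Subgroup.centralizer {zc} : Subgroup ↥Hsub) := by
    rintro _ (rfl | ⟨x, hx, rfl⟩)
    · exact Subgroup.mem_centralizer_singleton_iff.2 rfl
    · refine Subgroup.mem_centralizer_singleton_iff.2 ?_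
      have h1 := el8_of_same (List.all_eq_true.1 central_ok.1 x (List.mem_range.2 hx))
      rw [show [177, 170 + x] = [177] ++ [170 + x] from rfl, show [170 + x, 177] = [170 + x] ++ [177] from rfl,
        el8_append (by simp) (by simp), el8_append (by simp) (by simp)] at h1
      exact h1.symm
  have htop := top_le_iff.1 (closure_gens ▸ (Subgroup.closure_le _).2 hle)
  refine Subgroup.mem_center_iff.2 fun g => ?_
  exact Subgroup.mem_centralizer_singleton_iff.1 (htop ▸ Subgroup.mem_top g)

/-- The central subgroup of order six. -/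
noncomputable def Zsub : Subgroup ↥Hsub := Subgroup.zpowers zc

theorem zsub_le : Zsub ≤ Subgroup.center ↥Hsub := Subgroup.zpowers_le.2 zc_central

instance zsub_normal : Zsub.Normal :=
  ⟨fun n hn g => by rwa [Subgroup.mem_center_iff.1 (zsub_le hn) g, mul_inv_cancel_right]⟩

theorem card_zsub : Nat.card ↥Zsub = 6 := (Nat.card_zpowers zc).trans zc_order

/-- The images of the lifts modulo the central subgroup. -/
noncomputable def img (x : ℕ) : ↥Hsub ⧸ Zsub := if x < 7 then QuotientGroup.mk (gen x) else 1

theorem ev_img {w : List ℕ} (hw : ∀ x ∈ w, x < 7) : ev img w = QuotientGroup.mk (ev gen w) := by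
  rw [show (QuotientGroup.mk (ev gen w) : ↥Hsub ⧸ Zsub) = QuotientGroup.mk' Zsub (ev gen w) from rfl, map_ev]
  exact ev_congr fun x hx => by rw [img, if_pos (hw x hx)]; rfl

theorem sat_img : Sat 7 relsG img := by
  have hpow : ∀ k : ℕ, (QuotientGroup.mk (zc ^ k) : ↥Hsub ⧸ Zsub) = 1 := fun k =>
    (QuotientGroup.eq_one_iff _).2 (pow_mem (Subgroup.mem_zpowers zc) k)
  refine ⟨fun x => ?_, fun x hx => by rw [img, if_neg (by omega)], fun r hr => ?_⟩
  · by_cases hx : x < 7
    · obtain ⟨l, hl, he⟩ := List.any_eq_true.1 (List.all_eq_true.1 lifts_cover.2.1 x (List.mem_range.2 hx))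
      obtain ⟨w, e, k⟩ := l
      simp only [Bool.and_eq_true, beq_iff_eq] at he
      obtain ⟨rfl, rfl⟩ := he
      have h1 := lift_eq hl
      rw [pow_one, ev_cons, ev_cons, show ev gen [] = 1 from rfl, mul_one] at h1
      rw [img, if_pos hx, ← QuotientGroup.mk_mul, h1, hpow]
    · rw [img, if_neg hx, mul_one]
  · obtain ⟨l, hl, he⟩ := List.any_eq_true.1 (List.all_eq_true.1 lifts_cover.1 r hr)
    obtain ⟨w, e, k⟩ := l
    simp only [Bool.and_eq_true, beq_iff_eq] at he
    obtain ⟨rfl, rfl⟩ := he
    rw [ev_img fun x hx => Nat.le_of_ble_eq_true (List.all_eq_true.1 (List.all_eq_true.1 lifts_cover.2.2 r hr) x hx),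
      ← QuotientGroup.mk_pow, lift_eq hl, hpow]

/-- The presented group onto the quotient. -/
noncomputable def quot : Pres 7 relsG →* ↥Hsub ⧸ Zsub := presHom sat_img

theorem quot_surjective : Function.Surjective quot := by
  refine presHom_surjective sat_img ?_
  have h := congrArg (Subgroup.map (QuotientGroup.mk' Zsub)) closure_gens
  rw [MonoidHom.map_closure, Subgroup.map_top_of_surjective _ (QuotientGroup.mk'_surjective _)] at h
  rw [eq_top_iff, ← h, Subgroup.closure_le]
  rintro _ ⟨a, ha, rfl⟩
  rcases ha with rfl | ⟨x, hx, rfl⟩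
  · rw [show QuotientGroup.mk' Zsub zc = 1 from (QuotientGroup.eq_one_iff _).2 (Subgroup.mem_zpowers zc)]
    exact one_mem _
  · exact Subgroup.subset_closure ⟨x, hx, by rw [img, if_pos (Set.mem_Iio.1 hx)]; rfl⟩

theorem quot_injective : Function.Injective quot := by
  haveI := suz.1
  refine (MonoidHom.ker_eq_bot_iff _).1
    (((MonoidHom.normal_ker quot).eq_bot_or_eq_top).resolve_right fun h => ?_)
  have hall : ∀ g : ↥Hsub, g ∈ Subgroup.center ↥Hsub := fun g => by
    obtain ⟨q, hq⟩ := quot_surjective (QuotientGroup.mk g)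
    have hq' : quot q = 1 := MonoidHom.mem_ker.1 (h ▸ Subgroup.mem_top q)
    exact zsub_le ((QuotientGroup.eq_one_iff g).1 (by rw [← hq, hq']))
  refine el8_ne (by simp) (by simp) central_ok.2.2.2 ?_
  rw [show [170, 171] = [170] ++ [171] from rfl, show [171, 170] = [171] ++ [170] from rfl,
    el8_append (by simp) (by simp), el8_append (by simp) (by simp)]
  exact Subgroup.mem_center_iff.1 (hall (el8 [171])) (el8 [170])

/-- The presented group is the quotient. -/
noncomputable def quotEquiv : Pres 7 relsG ≃* ↥Hsub ⧸ Zsub :=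
  MulEquiv.ofBijective quot ⟨quot_injective, quot_surjective⟩

theorem card_Hsub : Nat.card ↥Hsub = 2690072985600 := by
  rw [Zsub.card_eq_card_quotient_mul_card_subgroup, ← Nat.card_congr quotEquiv.toEquiv, suz.2, card_zsub]

end CfsgLib.Spor.SuzMult
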