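import Cfsg.Agent.Lib.Spor.SuzMult.Bound
import Cfsg.Agent.Lib.Spor.Suz.Cox
import Cfsg.Agent.Lib.PGroup.SchurCovers
import Cfsg.Prelude.Def_Sporadic

/-!
The Schur multiplier of the Suzuki group is cyclic of order six: the sixfold cover is perfect and has trivial
multiplier.
-/

set_option autoImplicit false
set_option maxRecDepth 20000

namespace CfsgLib.Spor.SuzMult

open Cfsg CfsgLib.Spor.TC CfsgLib.Spor.Suz

/-- The cover onto the presented group. -/
noncomputable def proj : ↥Hsub →* Pres 7 relsG :=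
  quotEquiv.symm.toMonoidHom.comp (QuotientGroup.mk' Zsub)

theorem proj_surjective : Function.Surjective proj :=
  quotEquiv.symm.surjective.comp (QuotientGroup.mk'_surjective _)

theorem ker_proj : proj.ker = Zsub := by
  rw [proj, MonoidHom.ker_comp_of_injective _ _ quotEquiv.symm.injective, QuotientGroup.ker_mk']

theorem commutator_pres : commutator (Pres 7 relsG) = ⊤ := by
  haveI := suz.1
  haveI : Finite (Pres 7 relsG) := Nat.finite_of_card_ne_zero (by rw [suz.2]; norm_num)
  exact Mults.commutator_eq_top_of_card (by rw [suz.2]; norm_num)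

/-- The relators force the central element into the derived subgroup. -/
theorem zc_mem_commutator : zc ∈ commutator ↥Hsub := by
  let f : ↥Hsub →* Abelianization ↥Hsub := Abelianization.of
  have key : ∀ {w : List ℕ} {e k : ℕ}, (w, e, k) ∈ lifts →
      e • (w.map fun x => Additive.ofMul (f (gen x))).sum = k • Additive.ofMul (f zc) := fun {w e k} h => by
    have h1 := congrArg f (lift_eq h)
    rw [map_pow, map_pow, map_ev] at h1
    have h2 := congrArg Additive.ofMul h1
    rw [ofMul_pow, ofMul_pow] at h2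
    rw [← h2]
    congr 1
  have h6 : (6 : ℕ) • Additive.ofMul (f zc) = 0 := by
    rw [← ofMul_pow, ← map_pow, ← zc_order, pow_orderOf_eq_one, map_one, ofMul_one]
  have a30 := key (w := [0, 1, 2, 5]) (e := 5) (k := 5) (by decide)
  have a28 := key (w := [0, 3, 2, 3, 2, 3, 2, 3, 2]) (e := 1) (k := 4) (by decide)
  have a13 := key (w := [1, 2]) (e := 3) (k := 3) (by decide)
  have a2 := key (w := [2, 2]) (e := 1) (k := 2) (by decide)
  have a3 := key (w := [3, 3]) (e := 1) (k := 1) (by decide)
  have a5 := key (w := [5, 5]) (e := 1) (k := 0) (by decide)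
  have a17 := key (w := [1, 6]) (e := 3) (k := 3) (by decide)
  have a16 := key (w := [1, 5]) (e := 3) (k := 3) (by decide)
  have a6 := key (w := [6, 6]) (e := 1) (k := 2) (by decide)
  have a31 := key (w := [1, 5, 6]) (e := 5) (k := 2) (by decide)
  simp only [List.map_cons, List.map_nil, List.sum_cons, List.sum_nil, add_zero] at a30 a28 a13 a2 a3 a5 a17 a16 a6 a31
  have hz : Additive.ofMul (f zc) = 0 := by
    generalize Additive.ofMul (f (gen 0)) = u0, Additive.ofMul (f (gen 1)) = u1, Additive.ofMul (f (gen 2)) = u2,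
      Additive.ofMul (f (gen 3)) = u3, Additive.ofMul (f (gen 5)) = u5, Additive.ofMul (f (gen 6)) = u6,
      Additive.ofMul (f zc) = ζ at a30 a28 a13 a2 a3 a5 a17 a16 a6 a31 h6 ⊢
    linear_combination (norm := module) -a30 + 5 • a28 + a13 - 9 • a2 - 10 • a3 + 3 • a5 + a17 - 2 • a16 - 4 • a6 + a31
      - 3 • h6
  exact (QuotientGroup.eq_one_iff zc).1 hz

theorem hsub_perfect : Group.IsPerfect ↥Hsub := by
  refine ⟨eq_top_iff.2 fun g _ => ?_⟩
  have hm : (commutator ↥Hsub).map proj = ⊤ := by
    rw [commutator_def, Subgroup.map_commutator, Subgroup.map_top_of_surjective _ proj_surjective,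
      ← commutator_def, commutator_pres]
  obtain ⟨c, hc, e⟩ : proj g ∈ (commutator ↥Hsub).map proj := by rw [hm]; trivial
  have hk : c⁻¹ * g ∈ Zsub := by rw [← ker_proj, MonoidHom.mem_ker, map_mul, map_inv, e, inv_mul_cancel]
  have := mul_mem hc ((Subgroup.zpowers_le.2 zc_mem_commutator) hk)
  rwa [mul_inv_cancel_left] at this

theorem multiplier_Suz : Cfsg.HasCyclicSchurMultiplier Cfsg.Spor.Suz 6 := by
  obtain ⟨e, -⟩ := coxData.exists_equiv (k := 7) rfl rels_eq
  have hperf := hsub_perfect
  haveI : Finite ↥Hsub := Nat.finite_of_card_ne_zero (by rw [card_Hsub]; norm_num)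
  have hcyc : IsCyclic ↥proj.ker := by rw [ker_proj, Zsub]; infer_instance
  have hker : proj.ker ≤ Subgroup.center ↥Hsub := ker_proj.le.trans zsub_le
  refine Mults.hasCyclic_of e.symm ⟨↥Hsub, inferInstance, inferInstance, proj,
    ⟨proj_surjective, hker, hperf.commutator_eq_top.ge.trans' le_top⟩, hcyc, by rw [ker_proj]; exact card_zsub⟩ ?_
  intro Γ _ _ τ hτ
  have hone : Cfsg.HasCyclicSchurMultiplier ↥Hsub 1 :=
    Lie.Mult.hasCyclic_one_congr (MulEquiv.refl _) fun _ _ _ σ hσ => ker_eq_bot σ hσ
  obtain ⟨η, hη⟩ := (CfsgLib.Schur.universal_iff hperf proj proj_surjective hker).2 hone Γ τ hτ.1 hτ.2.1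
  have htop : η.range = ⊤ := CfsgLib.Schur.eq_top_of_map_eq_top hτ (by
    rw [MonoidHom.map_range, hη, MonoidHom.range_eq_top.2 proj_surjective])
  have hsurj : Function.Surjective η := MonoidHom.range_eq_top.1 htop
  have hmap : τ.ker = proj.ker.map η := by
    rw [← hη, ← MonoidHom.comap_ker, Subgroup.map_comap_eq_self_of_surjective hsurj]
  rw [hmap]
  haveI := hcyc
  refine ⟨isCyclic_of_surjective (η.subgroupMap proj.ker) (η.subgroupMap_surjective proj.ker), ?_⟩
  have h6 : Nat.card ↥proj.ker = 6 := by rw [ker_proj]; exact card_zsub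
  rw [← h6]
  exact Subgroup.card_map_dvd _ _

end CfsgLib.Spor.SuzMult
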