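import Cfsg.Agent.Lib.Spor.SuzMult.CheckTable
import Cfsg.Agent.Lib.Spor.CoTwoOut.CheckTable
import Cfsg.Agent.Lib.Spor.CoTwoMult.Table

/-!
The table as automorphisms of the lattice, inside the subgroup generated by its first eight new entries.
-/

set_option autoImplicit false
set_option maxRecDepth 100000

namespace CfsgLib.Spor.SuzMult

open Cfsg CfsgLib.Spor.Leech CfsgLib.Spor.Leech.Census32 CfsgLib.Spor.SchurCert.MatBridge

attribute [local irreducible] chosen walk enc

theorem length_extendE : ∀ (ws : List (List ℕ)) (acc : List Co0), (extendE ws acc).length = acc.length + ws.length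
  | [], acc => rfl
  | w :: ws, acc => by rw [extendE, length_extendE ws]; simp; omega

theorem length_extendM : ∀ (ws : List (List ℕ)) (acc : List Mat), (extendM ws acc).length = acc.length + ws.length
  | [], acc => rfl
  | w :: ws, acc => by rw [extendM, length_extendM ws]; simp; omega

theorem getD_extendE_old : ∀ (ws : List (List ℕ)) (acc : List Co0) (k : ℕ), k < acc.length →
    (extendE ws acc).getD k 1 = acc.getD k 1
  | [], _, _, _ => rfl
  | w :: ws, acc, k, hk => by
    rw [extendE, getD_extendE_old ws _ k (by rw [List.length_append]; omega), List.getD_append _ _ _ _ hk]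

/-- The table up to the eight generators. -/
noncomputable def gens8 : List Co0 := extendE (ops.take 8) (extendE CoTwoOut.ops CoTwoMult.elts)

/-- The automorphisms. -/
noncomputable def elts : List Co0 := extendE (ops.drop 8) gens8

theorem length_old : (extendE CoTwoOut.ops CoTwoMult.elts).length = CoTwoOut.allMats.length := by
  rw [length_extendE, CoTwoMult.elts, length_extendE]
  rfl

theorem length_gens8 : gens8.length = 178 := by
  rw [gens8, length_extendE, length_old, Nat.eq_of_beq_eq_true table_check.2.1]
  rfl

theorem isMat_elts : ∀ k, IsMat (elts.getD k 1) (table.getD k oneMat) := by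
  have h0 := isMat_extend CoTwoOut.ops CoTwoMult.elts CoTwoMult.mats
    (by rw [CoTwoMult.elts, length_extendE]; rfl) CoTwoMult.isMat_elts
  rw [eq_of_beq CoTwoOut.table_check.1] at h0
  have h1 := isMat_extend (ops.take 8) _ _ length_old h0
  have h2 := isMat_extend (ops.drop 8) _ _ (by rw [length_extendE, length_extendM, length_old]) h1
  rw [eq_of_beq table_check.1] at h2
  exact h2

/-- The subgroup generated by the seven lifts and the central element. -/
noncomputable def Hsub : Subgroup Co0 := Subgroup.closure {g | ∃ k, 170 ≤ k ∧ k < 178 ∧ gens8.getD k 1 = g}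

theorem extend_mem (H : Subgroup Co0) : ∀ (ws : List (List ℕ)) (acc : List Co0),
    (∀ w ∈ ws, ∀ k ∈ w, 170 ≤ k) → (∀ k, 170 ≤ k → acc.getD k 1 ∈ H) →
    ∀ k, 170 ≤ k → (extendE ws acc).getD k 1 ∈ H
  | [], _, _, h => h
  | w :: ws, acc, hw, h => by
    rw [extendE]
    refine extend_mem H ws _ (fun u hu => hw u (List.mem_cons_of_mem _ hu)) fun k hk => ?_
    rcases Nat.lt_trichotomy k acc.length with hl | hl | hl
    · rw [List.getD_append _ _ _ _ hl]
      exact h k hk
    · rw [hl, List.getD_append_right _ _ _ _ le_rfl, Nat.sub_self]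
      exact word_mem h (hw w List.mem_cons_self)
    · rw [List.getD_eq_default _ _ (by simp; omega)]
      exact one_mem H

theorem elts_mem : ∀ k, 170 ≤ k → elts.getD k 1 ∈ Hsub := by
  refine extend_mem Hsub _ _ ?_ fun k hk => ?_
  · intro w hw k hk
    exact Nat.le_of_ble_eq_true (List.all_eq_true.1 (List.all_eq_true.1 table_check.2.2 w hw) k hk)
  · rcases Nat.lt_or_ge k 178 with hl | hl
    · exact Subgroup.subset_closure ⟨k, hk, hl, rfl⟩
    · rw [List.getD_eq_default _ _ (by rw [length_gens8]; omega)]
      exact one_mem _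

theorem elts_eq {k : ℕ} (hk : k < 178) : elts.getD k 1 = gens8.getD k 1 :=
  getD_extendE_old _ _ _ (by rw [length_gens8]; exact hk)

theorem start_code : enc (Spor.leechU : GolayPt → ℤ) = startCode ∧
    sqNorm (Spor.leechU : GolayPt → ℤ) = 32 := by
  refine ⟨CoTwoMult.mark_code.1.trans ?_, CoTwoMult.mark_code.2⟩
  rfl

end CfsgLib.Spor.SuzMult
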